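import Mathlib

universe u

namespace Groth.Agent.H5KaehlerInsep

open Polynomial TensorProduct KaehlerDifferential

variable {E : Type u} [Field E] (P : E[X]) [Fact (Irreducible P)]

/-- The `E[X]`-algebra structure on `AdjoinRoot P`. -/
@[reducible] noncomputable def polyAlg : Algebra E[X] (AdjoinRoot P) := (AdjoinRoot.mk P).toAlgebra

attribute [local instance] polyAlg

instance : IsScalarTower E E[X] (AdjoinRoot P) :=
  IsScalarTower.of_algebraMap_eq' (by
    rw [AdjoinRoot.algebraMap_eq]
    rfl)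

theorem algebraMap_poly_surjective : Function.Surjective (algebraMap E[X] (AdjoinRoot P)) :=
  AdjoinRoot.mk_surjective

theorem algebraMap_poly_apply (q : E[X]) : algebraMap E[X] (AdjoinRoot P) q = AdjoinRoot.mk P q := rfl

theorem kerCotangentToTensor_eq_zero (hP : derivative P = 0) :
    kerCotangentToTensor E E[X] (AdjoinRoot P) = 0 := by
  ext x
  obtain ⟨x, rfl⟩ := Ideal.toCotangent_surjective _ x
  rw [kerCotangentToTensor_toCotangent, LinearMap.zero_apply]
  have hx : P ∣ x.1 := by
    have := x.2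
    rw [RingHom.mem_ker, algebraMap_poly_apply, AdjoinRoot.mk_eq_zero] at this
    exact this
  obtain ⟨q, hq⟩ := hx
  rw [hq, Derivation.leibniz, KaehlerDifferential.polynomial_D_apply E P, hP, zero_smul, smul_zero,
    add_zero, TensorProduct.tmul_smul, TensorProduct.smul_tmul', Algebra.smul_def,
    algebraMap_poly_apply, AdjoinRoot.mk_self, zero_mul, TensorProduct.zero_tmul]

theorem mapBaseChange_bijective (hP : derivative P = 0) :
    Function.Bijective (KaehlerDifferential.mapBaseChange E E[X] (AdjoinRoot P)) := by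
  refine ⟨?_, KaehlerDifferential.mapBaseChange_surjective E E[X] (AdjoinRoot P)
    (algebraMap_poly_surjective P)⟩
  rw [← LinearMap.ker_eq_bot, eq_bot_iff]
  intro y hy
  have hex := KaehlerDifferential.exact_kerCotangentToTensor_mapBaseChange E E[X] (AdjoinRoot P)
    (algebraMap_poly_surjective P)
  obtain ⟨z, rfl⟩ := (hex y).1 hy
  rw [kerCotangentToTensor_eq_zero P hP, LinearMap.zero_apply]
  exact Submodule.zero_mem _

theorem finrank_kaehler_eq_one (hP : derivative P = 0) :
    Module.finrank (AdjoinRoot P) (Ω[AdjoinRoot P⁄E]) = 1 := by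
  let e1 : (AdjoinRoot P) ⊗[E[X]] Ω[E[X]⁄E] ≃ₗ[AdjoinRoot P] Ω[AdjoinRoot P⁄E] :=
    LinearEquiv.ofBijective (KaehlerDifferential.mapBaseChange E E[X] (AdjoinRoot P))
      (mapBaseChange_bijective P hP)
  let e2 : (AdjoinRoot P) ⊗[E[X]] Ω[E[X]⁄E] ≃ₗ[AdjoinRoot P] (AdjoinRoot P) ⊗[E[X]] E[X] :=
    TensorProduct.AlgebraTensorModule.congr (LinearEquiv.refl _ _) (KaehlerDifferential.polynomialEquiv E)
  let e3 : (AdjoinRoot P) ⊗[E[X]] E[X] ≃ₗ[AdjoinRoot P] (AdjoinRoot P) :=
    TensorProduct.AlgebraTensorModule.rid E[X] (AdjoinRoot P) (AdjoinRoot P)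
  rw [← (e1.symm.trans (e2.trans e3)).finrank_eq.symm]
  exact Module.finrank_self _

end Groth.Agent.H5KaehlerInsep
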