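import Mathlib
import Groth.Agent.Lib.Helper5.KaehlerInsep.A

universe u

namespace Groth.Agent.H5KaehlerInsep

open Polynomial TensorProduct KaehlerDifferential Algebra

variable {E : Type u} [Field E] (P : E[X]) [Fact (Irreducible P)]

/-- the extension `E[X] → AdjoinRoot P`. -/
noncomputable def ext : Algebra.Extension.{u} E (AdjoinRoot P) :=
  Algebra.Extension.ofSurjective (P := E[X]) (aeval (AdjoinRoot.root P))
    (by
      intro x
      obtain ⟨q, rfl⟩ := AdjoinRoot.mk_surjective x
      exact ⟨q, AdjoinRoot.aeval_eq q⟩)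

instance : Algebra.FormallySmooth E (ext P).Ring :=
  inferInstanceAs (Algebra.FormallySmooth E E[X])

theorem ext_algebraMap (q : E[X]) : algebraMap (ext P).Ring (AdjoinRoot P) q = AdjoinRoot.mk P q :=
  AdjoinRoot.aeval_eq q

theorem mem_ext_ker (q : (ext P).Ring) : q ∈ (ext P).ker ↔ P ∣ (q : E[X]) := by
  rw [Algebra.Extension.ker, RingHom.mem_ker, ext_algebraMap, AdjoinRoot.mk_eq_zero]

theorem exists_smul_eq_cotangent :
    ∃ v : (ext P).Cotangent, ∀ w : (ext P).Cotangent, ∃ c : AdjoinRoot P, c • v = w := by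
  have hP : (P : (ext P).Ring) ∈ (ext P).ker := (mem_ext_ker P P).2 dvd_rfl
  refine ⟨Algebra.Extension.Cotangent.mk ⟨P, hP⟩, ?_⟩
  intro w
  obtain ⟨⟨x, hx⟩, rfl⟩ := Algebra.Extension.Cotangent.mk_surjective w
  obtain ⟨q, hq⟩ := (mem_ext_ker P x).1 hx
  refine ⟨algebraMap (ext P).Ring (AdjoinRoot P) q, ?_⟩
  rw [algebraMap_smul, ← map_smul]
  congr 1
  apply Subtype.ext
  show q * P = x
  rw [hq, mul_comm]

instance : Module.Finite (AdjoinRoot P) (ext P).Cotangent := by
  obtain ⟨v, hv⟩ := exists_smul_eq_cotangent P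
  refine ⟨⟨{v}, ?_⟩⟩
  rw [_root_.eq_top_iff]
  intro w _
  obtain ⟨c, rfl⟩ := hv w
  exact Submodule.smul_mem _ _ (Submodule.subset_span (by simp))

theorem finrank_ext_cotangent_le : Module.finrank (AdjoinRoot P) (ext P).Cotangent ≤ 1 := by
  obtain ⟨v, hv⟩ := exists_smul_eq_cotangent P
  exact finrank_le_one v hv

theorem finrank_h1Cotangent_le :
    Module.finrank (AdjoinRoot P) (Algebra.H1Cotangent E (AdjoinRoot P)) ≤ 1 := by
  rw [← (ext P).equivH1CotangentOfFormallySmooth.finrank_eq]
  have hle := LinearMap.finrank_le_finrank_of_injective (ext P).h1Cotangentι_injective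
  exact hle.trans (finrank_ext_cotangent_le P)

instance : Module.Finite (AdjoinRoot P) (Algebra.H1Cotangent E (AdjoinRoot P)) := by
  haveI : Module.Finite (AdjoinRoot P) (ext P).H1Cotangent :=
    Module.Finite.of_injective (ext P).h1Cotangentι (ext P).h1Cotangentι_injective
  exact Module.Finite.equiv (ext P).equivH1CotangentOfFormallySmooth

end Groth.Agent.H5KaehlerInsep
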