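import Mathlib
import Groth.Agent.Lib.Helper5.KaehlerInsep.A
import Groth.Agent.Lib.Helper5.KaehlerInsep.B

universe u

namespace Groth.Agent.H5KaehlerInsep

open Polynomial TensorProduct KaehlerDifferential Algebra

/-- dimension count for a four term exact sequence. -/
theorem finrank_bounds {K V0 V1 V2 V3 : Type*} [Field K] [AddCommGroup V0] [Module K V0]
    [AddCommGroup V1] [Module K V1] [AddCommGroup V2] [Module K V2] [AddCommGroup V3] [Module K V3]
    [Module.Finite K V0] [Module.Finite K V1] [Module.Finite K V3]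
    (δ : V0 →ₗ[K] V1) (β : V1 →ₗ[K] V2) (γ : V2 →ₗ[K] V3)
    (h1 : Function.Exact δ β) (h2 : Function.Exact β γ) (h3 : Function.Surjective γ) :
    Module.finrank K V1 + Module.finrank K V3 ≤ Module.finrank K V2 + Module.finrank K V0 ∧
    Module.finrank K V2 ≤ Module.finrank K V1 + Module.finrank K V3 := by
  have hkγ : LinearMap.ker γ = LinearMap.range β := (LinearMap.exact_iff.1 h2)
  have hkβ : LinearMap.ker β = LinearMap.range δ := (LinearMap.exact_iff.1 h1)
  haveI : Module.Finite K (LinearMap.ker γ) := by rw [hkγ]; infer_instance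
  haveI : Module.Finite K (V2 ⧸ LinearMap.ker γ) :=
    Module.Finite.equiv (γ.quotKerEquivOfSurjective h3).symm
  haveI : Module.Finite K V2 := Module.Finite.of_submodule_quotient (LinearMap.ker γ)
  have e1 := LinearMap.finrank_range_add_finrank_ker γ
  have e2 := LinearMap.finrank_range_add_finrank_ker β
  have e3 := LinearMap.finrank_range_add_finrank_ker δ
  rw [LinearMap.range_eq_top.2 h3, finrank_top, hkγ] at e1
  rw [hkβ] at e2
  constructor <;> omega

variable (k E : Type u) [Field k] [Field E] [Algebra k E]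
    (P : E[X]) [Fact (Irreducible P)] 

theorem main (hP : Polynomial.derivative P = 0)
    [Module.Finite E (KaehlerDifferential k E)] :
    Module.finrank (AdjoinRoot P) (KaehlerDifferential E (AdjoinRoot P)) = 1 ∧
      Module.finrank E (KaehlerDifferential k E) ≤ Module.finrank (AdjoinRoot P) (KaehlerDifferential k (AdjoinRoot P)) ∧
      Module.finrank (AdjoinRoot P) (KaehlerDifferential k (AdjoinRoot P)) ≤ Module.finrank E (KaehlerDifferential k E) + 1 := by
  have h1 := finrank_kaehler_eq_one P hP
  refine ⟨h1, ?_⟩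
  haveI : Module.Finite (AdjoinRoot P) (Ω[AdjoinRoot P⁄E]) :=
    Module.finite_of_finrank_pos (by rw [h1]; exact Nat.one_pos)
  have hb := finrank_bounds (K := AdjoinRoot P) (Algebra.H1Cotangent.δ k E (AdjoinRoot P))
    (KaehlerDifferential.mapBaseChange k E (AdjoinRoot P))
    (KaehlerDifferential.map k E (AdjoinRoot P) (AdjoinRoot P))
    (Algebra.H1Cotangent.exact_δ_mapBaseChange k E (AdjoinRoot P))
    (KaehlerDifferential.exact_mapBaseChange_map k E (AdjoinRoot P))
    (KaehlerDifferential.map_surjective k E (AdjoinRoot P))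
  have h0 := finrank_h1Cotangent_le P
  have hr : Module.finrank (AdjoinRoot P) ((AdjoinRoot P) ⊗[E] Ω[E⁄k]) = Module.finrank E (Ω[E⁄k]) :=
    Module.finrank_baseChange
  rw [h1, hr] at hb
  constructor <;> omega

end Groth.Agent.H5KaehlerInsep
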